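import Mathlib
import Cfsg.Agent.H21.SN.Tools
import Cfsg.Agent.H880.ClPsuB
import Cfsg.Agent.CpAutU.Fixed

/-!
# S3831, unitary groups: restriction to a nondegenerate invariant subspace (helper154)

`exists_sub` : `x = toAut A ρ` an automorphism of `PSU n F q`, `W` a nondegenerate subspace of dimension `m` invariant under
the semilinear map `A ∘ ρ`; then `A ∘ ρ` on `W` is `B ∘ ρ` in an orthonormal basis of `W`, and `PS k x`, `RN x` are
inherited by `toAut B ρ : MulAut (PSU m F q)`.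
-/

set_option autoImplicit false
set_option linter.unusedSectionVars false

namespace Cfsg.Agent.H154.SN

open Matrix Subgroup Module Cfsg Cfsg.Agent.H459.Rad Cfsg.Agent.H21.SN
open Cfsg.Agent.LieClassical.HermBasic Cfsg.Agent.LieClassical.HermSiegel
open Cfsg.Agent.ClassicalGeometry.PSUAutBasic Cfsg.Agent.ClassicalGeometry.HermOrtho
open Cfsg.Agent.ClassicalGeometry.PSUAutCount (toAut gm gm_mul gm_one gm_mul_inv gm_inv_mul semiConj guConj act_guConj
  herm_gm gm_inv_mulVec gm_mulVec_inv herm_map gm_inj act_semiConj herm_semi)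

variable {F : Type} [Field F] [Fintype F] {q n m : ℕ}

/-- the semilinear map `A ∘ ρ` -/
def sl (A : GU n F q) (ρ : F ≃+* F) (x : Fin n → F) : Fin n → F := gm A *ᵥ fun i => ρ (x i)

theorem sl_def (A : GU n F q) (ρ : F ≃+* F) (x : Fin n → F) : sl A ρ x = gm A *ᵥ fun i => ρ (x i) := rfl

theorem sl_add (A : GU n F q) (ρ : F ≃+* F) (x y : Fin n → F) : sl A ρ (x + y) = sl A ρ x + sl A ρ y := by
  rw [sl_def, sl_def, sl_def, ← mulVec_add]
  congr 1
  funext i
  simp

theorem sl_smul (A : GU n F q) (ρ : F ≃+* F) (c : F) (x : Fin n → F) : sl A ρ (c • x) = ρ c • sl A ρ x := by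
  rw [sl_def, sl_def, ← mulVec_smul]
  congr 1
  funext i
  simp

theorem sl_zero (A : GU n F q) (ρ : F ≃+* F) : sl A ρ 0 = 0 := by
  have := sl_smul A ρ 0 0
  rwa [zero_smul, map_zero, zero_smul] at this

theorem sl_sum (A : GU n F q) (ρ : F ≃+* F) {ι : Type*} (s : Finset ι) (f : ι → Fin n → F) :
    sl A ρ (∑ i ∈ s, f i) = ∑ i ∈ s, sl A ρ (f i) := by
  classical
  induction s using Finset.induction_on with
  | empty => rw [Finset.sum_empty, Finset.sum_empty, sl_zero]
  | insert a s ha ih => rw [Finset.sum_insert ha, Finset.sum_insert ha, sl_add, ih]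

theorem herm_sl (A : GU n F q) (ρ : F ≃+* F) (u v : Fin n → F) :
    hermForm n F q (sl A ρ u) (sl A ρ v) = ρ (hermForm n F q u v) := herm_semi A ρ u v

theorem sl_injective (A : GU n F q) (ρ : F ≃+* F) : Function.Injective (sl A ρ) := by
  intro x y h
  have h1 := congrArg (fun z => gm A⁻¹ *ᵥ z) h
  simp only [sl_def, gm_inv_mulVec] at h1
  funext i
  exact ρ.injective (congrFun h1 i)

theorem sl_surjective (A : GU n F q) (ρ : F ≃+* F) : Function.Surjective (sl A ρ) :=
  Finite.surjective_of_injective (sl_injective A ρ)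

/-- the semilinear map preserves the orthogonal complement -/
theorem sl_perp {A : GU n F q} {ρ : F ≃+* F} {W : Submodule F (Fin n → F)} (hA : ∀ w ∈ W, sl A ρ w ∈ W)
    {u : Fin n → F} (hu : u ∈ hermPerp q (W : Set (Fin n → F))) : sl A ρ u ∈ hermPerp q (W : Set (Fin n → F)) := by
  intro w hw
  obtain ⟨⟨w', hw'⟩, h1⟩ : ∃ w' : W, (⟨sl A ρ w', hA w' w'.2⟩ : W) = ⟨w, hw⟩ := by
    have hinj : Function.Injective (fun w' : W => (⟨sl A ρ w', hA w' w'.2⟩ : W)) := by
      intro a b hab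
      exact Subtype.ext (sl_injective A ρ (congrArg Subtype.val hab))
    exact Finite.surjective_of_injective hinj ⟨w, hw⟩
  have h2 : sl A ρ w' = w := congrArg Subtype.val h1
  rw [← h2, herm_sl, hu w' hw', map_zero]

/-- **Coordinates of a nondegenerate subspace.** -/
theorem exists_coord (hF : Fintype.card F = q ^ 2) {W : Submodule F (Fin n → F)}
    (hW : ∀ u ∈ W, (∀ v ∈ W, hermForm n F q u v = 0) → u = 0) (hm : finrank F W = m) :
    ∃ (T : (Fin m → F) →ₗ[F] (Fin n → F)) (φ : SU m F q →* SU n F q), Function.Injective T ∧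
      LinearMap.range T = W ∧ (∀ u v, hermForm n F q (T u) (T v) = hermForm m F q u v) ∧
      (∀ a u, act (φ a) (T u) = T (act a u)) ∧
      ∀ a, ∀ w ∈ hermPerp q (W : Set (Fin n → F)), act (φ a) w = w := by
  have hmn : m ≤ n := by
    have h1 := Submodule.finrank_le W
    rwa [hm, finrank_fin_fun] at h1
  obtain ⟨k, rfl⟩ := Nat.exists_eq_add_of_le hmn
  let e0 : Fin m ⊕ Fin k ≃ Fin (m + k) := finSumFinEquiv
  obtain ⟨P, hP, hPx⟩ := exists_GU_adapted hF e0 W hW hm
  let P' : GU (m + k) F q := ⟨P, hP⟩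
  have hPx' : ∀ x, gm P' *ᵥ x ∈ W ↔ ∀ j : Fin k, x (e0 (.inr j)) = 0 := hPx
  let e : Fin m → Fin (m + k) := fun i => e0 (.inl i)
  have he : Function.Injective e := fun i j h => Sum.inl_injective (e0.injective h)
  have hran : ∀ x, x ∉ Set.range e → ∃ j, x = e0 (.inr j) := by
    intro x hx
    obtain ⟨s, rfl⟩ := e0.surjective x
    rcases s with i | j
    · exact absurd ⟨i, rfl⟩ hx
    · exact ⟨j, rfl⟩
  have hne : ∀ (j : Fin k) (i : Fin m), e0 (.inr j) ≠ e i := by
    intro j i h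
    exact absurd (e0.injective h) (by simp)
  let T : (Fin m → F) →ₗ[F] (Fin (m + k) → F) := (Matrix.mulVecLin (gm P')).comp (Matrix.mulVecLin (Phan.inc F e))
  have hT : ∀ u, T u = gm P' *ᵥ (Phan.inc F e *ᵥ u) := fun u => rfl
  refine ⟨T, (guConj P').toMonoidHom.comp (Phan.ext hF e he), ?_, ?_, ?_, ?_, ?_⟩
  · intro u v huv
    rw [hT, hT] at huv
    have h1 := congrArg (fun z => gm P'⁻¹ *ᵥ z) huv
    simp only [gm_inv_mulVec] at h1
    funext i
    have h2 := congrFun h1 (e i)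
    rwa [Phan.inc_mulVec he, Phan.inc_mulVec he] at h2
  · ext w
    constructor
    · rintro ⟨u, rfl⟩
      rw [hT, hPx']
      intro j
      exact Phan.inc_mulVec_of_notMem (hne j) u
    · intro hw
      refine ⟨(gm P'⁻¹ *ᵥ w) ∘ e, ?_⟩
      rw [hT]
      have h1 : Phan.inc F e *ᵥ ((gm P'⁻¹ *ᵥ w) ∘ e) = gm P'⁻¹ *ᵥ w := by
        funext x
        by_cases hx : x ∈ Set.range e
        · obtain ⟨i, rfl⟩ := hx
          rw [Phan.inc_mulVec he]
          rfl
        · obtain ⟨j, rfl⟩ := hran x hx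
          rw [Phan.inc_mulVec_of_notMem (hne j)]
          symm
          refine (hPx' _).1 ?_ j
          rw [gm_mulVec_inv]
          exact hw
      rw [h1, gm_mulVec_inv]
  · intro u v
    rw [hT, hT, herm_gm, Phan.herm_inc he]
  · intro a u
    show act (guConj P' (Phan.ext hF e he a)) _ = _
    rw [act_guConj, hT, hT, gm_inv_mulVec]
    congr 1
    exact Phan.extM_inc he _ _
  · intro a v hv
    show act (guConj P' (Phan.ext hF e he a)) v = v
    rw [act_guConj]
    have hy : ∀ i, (gm P'⁻¹ *ᵥ v) (e i) = 0 := by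
      intro i
      have h1 : hermForm (m + k) F q (gm P'⁻¹ *ᵥ v) (Pi.single (e i) 1) = 0 := by
        rw [← herm_gm P', gm_mulVec_inv]
        refine hv _ ?_
        rw [SetLike.mem_coe, hPx']
        intro j
        rw [Pi.single_eq_of_ne (hne j i)]
      rwa [herm_single_right hF, one_pow, mul_one] at h1
    have h2 : act (Phan.ext hF e he a) (gm P'⁻¹ *ᵥ v) = gm P'⁻¹ *ᵥ v := by
      funext x
      by_cases hx : x ∈ Set.range e
      · obtain ⟨i, rfl⟩ := hx
        have h3 : act (Phan.ext hF e he a) (gm P'⁻¹ *ᵥ v) (e i) = (Phan.mat a *ᵥ ((gm P'⁻¹ *ᵥ v) ∘ e)) i :=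
          Phan.extM_mulVec he _ _ _
        have h4 : (gm P'⁻¹ *ᵥ v) ∘ e = 0 := funext hy
        rw [h3, h4, mulVec_zero, hy]
        rfl
      · exact Phan.extM_mulVec_of_notMem (fun i hi => hx ⟨i, hi.symm⟩) _ _
    rw [h2, gm_mulVec_inv]

/-- the semilinear map in coordinates -/
theorem exists_gu (hF : Fintype.card F = q ^ 2) {A : GU n F q} {ρ : F ≃+* F} {W : Submodule F (Fin n → F)}
    (hA : ∀ w ∈ W, sl A ρ w ∈ W) {T : (Fin m → F) →ₗ[F] (Fin n → F)} (hTW : LinearMap.range T = W)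
    (hTh : ∀ u v, hermForm n F q (T u) (T v) = hermForm m F q u v) :
    ∃ B : GU m F q, ∀ u, sl A ρ (T u) = T (sl B ρ u) := by
  have h0 : ∀ j : Fin m, ∃ b : Fin m → F, sl A ρ (T (Pi.single j 1)) = T b := by
    intro j
    have h1 : sl A ρ (T (Pi.single j 1)) ∈ W := hA _ (by rw [← hTW]; exact ⟨_, rfl⟩)
    rw [← hTW] at h1
    obtain ⟨b, hb⟩ := h1
    exact ⟨b, hb.symm⟩
  choose b hb using h0
  set M : Matrix (Fin m) (Fin m) F := Matrix.of fun i j => b j i with hM
  have hMx : ∀ x : Fin m → F, M *ᵥ x = ∑ j, x j • b j := by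
    intro x
    ext i
    simp only [hM, Matrix.mulVec, dotProduct, Matrix.of_apply, Finset.sum_apply, Pi.smul_apply, smul_eq_mul]
    exact Finset.sum_congr rfl fun j _ => mul_comm _ _
  have key : ∀ u : Fin m → F, sl A ρ (T u) = T (M *ᵥ fun i => ρ (u i)) := by
    intro u
    have h1 : u = ∑ j, u j • (Pi.single j 1 : Fin m → F) := by
      funext i
      simp [Finset.sum_apply, Pi.single_apply]
    rw [hMx, map_sum]
    conv_lhs => rw [h1, map_sum, sl_sum]
    refine Finset.sum_congr rfl fun j _ => ?_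
    rw [map_smul, sl_smul, hb, map_smul]
  have hiso' : ∀ u v : Fin m → F, hermForm m F q (M *ᵥ fun i => ρ (u i)) (M *ᵥ fun i => ρ (v i)) =
      hermForm m F q (fun i => ρ (u i)) (fun i => ρ (v i)) := by
    intro u v
    rw [← hTh, ← key, ← key, herm_sl, hTh, herm_map]
  have hiso : ∀ u v, hermForm m F q (M *ᵥ u) (M *ᵥ v) = hermForm m F q u v := by
    intro u v
    have h1 := hiso' (fun i => ρ.symm (u i)) (fun i => ρ.symm (v i))
    simp only [RingEquiv.apply_symm_apply] at h1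
    exact h1
  obtain ⟨g, hg, hgM⟩ := exists_GU_of_isometry hF hiso
  refine ⟨⟨g, hg⟩, fun u => ?_⟩
  rw [key, sl_def]
  congr 2
  exact hgM.symm

theorem act_semi (A : GU n F q) (ρ : F ≃+* F) (g : SU n F q) (x : Fin n → F) :
    act (semiConj A ρ g) (sl A ρ x) = sl A ρ (act g x) := act_semiConj A ρ g x

/-- **Restriction to a nondegenerate invariant subspace.** -/
theorem exists_sub (hF : Fintype.card F = q ^ 2) (hn : 3 ≤ n) {A : GU n F q} {ρ : F ≃+* F}
    {W : Submodule F (Fin n → F)} (hW : ∀ u ∈ W, (∀ v ∈ W, hermForm n F q u v = 0) → u = 0)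
    (hA : ∀ w ∈ W, gm A *ᵥ (fun i => ρ (w i)) ∈ W) (hm : finrank F W = m) :
    ∃ (T : (Fin m → F) →ₗ[F] (Fin n → F)) (B : GU m F q), Function.Injective T ∧ LinearMap.range T = W ∧
      (∀ u v, hermForm n F q (T u) (T v) = hermForm m F q u v) ∧
      (∀ u : Fin m → F, gm A *ᵥ (fun i => ρ (T u i)) = T (gm B *ᵥ fun i => ρ (u i))) ∧
      (∀ k, PS k (toAut A ρ : MulAut (PSU n F q)) → PS k (toAut B ρ : MulAut (PSU m F q))) ∧
      (RN (toAut A ρ : MulAut (PSU n F q)) → RN (toAut B ρ : MulAut (PSU m F q))) := by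
  obtain ⟨T, φ, hTi, hTW, hTh, hφ, hφp⟩ := exists_coord hF hW hm
  obtain ⟨B, hB⟩ := exists_gu hF (A := A) (ρ := ρ) hA hTW hTh
  refine ⟨T, B, hTi, hTW, hTh, hB, ?_⟩
  -- the intertwining relation
  have hint : ∀ a : SU m F q, semiConj A ρ (φ a) = φ (semiConj B ρ a) := by
    intro a
    apply ext_act
    intro y
    obtain ⟨x, rfl⟩ := sl_surjective A ρ y
    obtain ⟨w, hw, w', hw', rfl⟩ := exists_add_perp hF W hW x
    rw [← hTW] at hw
    obtain ⟨u, rfl⟩ := hw
    rw [act_semi, act_add, hφ, hφp a w' hw', sl_add, sl_add, act_add, hφp _ _ (sl_perp hA hw'), hB, hB, hφ, act_semi]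
  set ψ : SU m F q →* PSU n F q := (pr n F q).comp φ with hψ
  have hψa : ∀ a, ψ a = pr n F q (φ a) := fun _ => rfl
  have hψi : ∀ a, toAut A ρ (ψ a) = ψ (semiConj B ρ a) := by
    intro a
    rw [hψa, hψa, ← hint]
    rfl
  -- the kernel of `ψ` is central
  have hker : ψ.ker ≤ center (SU m F q) := by
    intro a ha
    have h1 : φ a ∈ center (SU n F q) := pr_eq_one_iff.1 (MonoidHom.mem_ker.1 ha)
    obtain ⟨c, -, -, hc⟩ := exists_scalar_of_mem_center hF hn h1
    apply mem_center_of_act (c := c)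
    intro u
    apply hTi
    rw [← hφ, hc, map_smul]
  set M : Subgroup (PSU n F q) := ψ.range with hM
  have hMA : ∀ z ∈ M, toAut A ρ z ∈ M := by
    rintro _ ⟨a, rfl⟩
    exact ⟨_, (hψi a).symm⟩
  have hle : ψ.rangeRestrict.ker ≤ (pr m F q).ker := by
    intro a ha
    have h1 : ψ a = 1 := congrArg Subtype.val (MonoidHom.mem_ker.1 ha)
    rw [MonoidHom.mem_ker, pr_eq_one_iff]
    exact hker (MonoidHom.mem_ker.2 h1)
  set f : M →* PSU m F q := ψ.rangeRestrict.liftOfSurjective ψ.rangeRestrict_surjective ⟨pr m F q, hle⟩ with hf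
  have hfa : ∀ a, f (ψ.rangeRestrict a) = pr m F q a := fun a =>
    MonoidHom.liftOfRightInverse_comp_apply _ _ _ _ _
  have hfs : Function.Surjective f := by
    intro z
    obtain ⟨a, rfl⟩ := pr_surjective z
    exact ⟨_, hfa a⟩
  have hy : ∀ z : M, f ⟨toAut A ρ z, hMA z z.2⟩ = toAut B ρ (f z) := by
    intro z
    obtain ⟨a, rfl⟩ := ψ.rangeRestrict_surjective z
    have h1 : (⟨toAut A ρ (ψ.rangeRestrict a), hMA _ (ψ.rangeRestrict a).2⟩ : M) = ψ.rangeRestrict (semiConj B ρ a) :=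
      Subtype.ext (hψi a)
    rw [h1, hfa, hfa]
    rfl
  have hks : Group.IsSolvable f.ker := by
    refine Group.isSolvable_of_comm fun z w => ?_
    obtain ⟨⟨z, hzM⟩, hz⟩ := z
    obtain ⟨⟨w, hwM⟩, hw⟩ := w
    obtain ⟨a, rfl⟩ := hzM
    obtain ⟨b, rfl⟩ := hwM
    have h1 : f (ψ.rangeRestrict a) = 1 := MonoidHom.mem_ker.1 hz
    rw [hfa, pr_eq_one_iff] at h1
    apply Subtype.ext
    apply Subtype.ext
    show ψ a * ψ b = ψ b * ψ a
    rw [← map_mul, ← map_mul, mem_center_iff.1 h1 b]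
  exact ⟨fun k hP => PS.sec hP hMA f hfs _ hy, fun hR => RN.sec hR hMA f hfs hks _ hy⟩

end Cfsg.Agent.H154.SN
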